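import Cfsg.Agent.H316.U6Model
import Cfsg.Agent.H238.PairW
import Cfsg.Agent.H696.GmnToral
import Cfsg.Agent.H944.TorAnyChev

/-!
# S3509, box T1: the toral form of the `p'`-elements of `Y^σ` (helper169)

`Y = D.group (KK r)`, `σ = m.σ` (`m : MData hp r q K₀`), `s ∈ Y^σ` of order prime to `r`:
`s = z t z⁻¹`, `t` in the torus, `n = z⁻¹ σ(z)` a representative of `w ∈ W`, `α = conj n ∘ σ` is a frame automorphism
over `θ = w ∘ g` fixing `t`, and `θ` preserves the positive roots trivial on `t`.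
-/

set_option autoImplicit false
set_option linter.unusedSectionVars false

namespace Cfsg.Agent.H169.RG

open CoxeterSystem Cfsg Cfsg.Lie Cfsg.Lie.ChevalleyDatum
open Cfsg.Agent.ChevalleyStructure Cfsg.Agent.ChevalleyStructure.Elts Cfsg.Agent.ChevalleyStructure.CoxeterGeom
  Cfsg.Agent.ChevalleyStructure.CoxeterGeomTypes Cfsg.Agent.ChevalleyStructure.NPerm
open Cfsg.Agent.Tits.Roots Cfsg.Agent.Tits.Core Cfsg.Agent.Nodes Cfsg.Agent.Nodes.Reps Cfsg.Agent.Nodes.BNOf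
  Cfsg.Agent.Nodes.RGDChev Cfsg.Agent.Nodes.Bruhat Cfsg.Agent.Nodes.NormalForm
open Cfsg.Agent.KFacts.RgdField Cfsg.Agent.KFacts.RgdChevCoord
open Cfsg.Agent.BpExc Cfsg.Agent.BpExc.TorCent Cfsg.Agent.BpExc.TorChev Cfsg.Agent.BpExc.Tow
  Cfsg.Agent.BpExc.TowChev Cfsg.Agent.BpExc.Fr Cfsg.Agent.BpExc.Pair Cfsg.Agent.BpExc.LangFr Cfsg.Agent.GpExc.Field
  Cfsg.Agent.BpExc.NInst Cfsg.Agent.BpExc.NChev
open Cfsg.Agent.H469.Exc Cfsg.Agent.H316.U6

universe u v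

section

variable {D : ChevalleyDatum} {l : ℕ} {M : CoxeterMatrix (Fin l)} (hp : IsType D l M) {k : Type u} [Field k]
  {W : Type v} [Group W] (cs : CoxeterSystem M W) {r : ℕ} [Fact r.Prime] [CharP k r]

include hp cs in
/-- the system of representatives -/
theorem nsysTT (hk : LocFin k) (r : ℕ) [Fact r.Prime] [CharP k r] : NSys M (TT D k) (nc hp k) := by
  have h := (tow (k := k) hp cs hk r).nsys
  rwa [TL_eq hp hk] at h

/-- the action of a frame automorphism on the lattice is determined by the automorphism -/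
theorem fr_unique [IsAlgClosed k] (hk : LocFin k) (r : ℕ) [Fact r.Prime] [CharP k r] {σ : MulAut ↥(D.group k)}
    {g g' : (Fin l → ℤ) ≃+ (Fin l → ℤ)} (F : Fr cs hp.isCartan (TT D k) (XX D l k) σ g)
    (F' : Fr cs hp.isCartan (TT D k) (XX D l k) σ g') : g = g' := by
  have key : ∀ a, IsRoot cs hp.isCartan a → g a = g' a := by
    intro a ha
    obtain ⟨u, hu, hu1⟩ := H696.GmnToral.XX_ne (k := k) hp cs ha
    have h1 : σ u ≠ 1 := fun h => hu1 (by rwa [map_eq_one_iff σ σ.injective] at h)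
    exact H696.GmnToral.XX_injective hp cs hk r ((F.root a).2 ha) ((F'.root a).2 ha) h1
      ((F.map a ha u).2 hu) ((F'.map a ha u).2 hu)
  ext v i
  have h2 : ∀ x, g.toAddMonoidHom x = g'.toAddMonoidHom x := by
    intro x
    have h3 : x = ∑ j, x j • sr j := by
      funext i
      simp [sr, Finset.sum_apply, Pi.single_apply]
    rw [h3, map_sum, map_sum]
    refine Finset.sum_congr rfl fun j _ => ?_
    rw [map_zsmul, map_zsmul]
    congr 1
    exact key (sr j) (isRoot_sr cs hp.isCartan j)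
  exact congrFun (h2 v) i

/-- **The toral form, general version.** -/
theorem exists_form [IsAlgClosed k] (hA : TorAll.HAlg r k) (hk : LocFin k)
    {σ : MulAut ↥(D.group k)} {g : (Fin l → ℤ) ≃+ (Fin l → ℤ)} {e : ℕ} (he : 0 < e) (hσ : IsFrob r e σ)
    (Fσ : Fr cs hp.isCartan (TT D k) (XX D l k) σ g) {s : ↥(D.group k)} (hs : σ s = s) {d : ℕ} (hd0 : d ≠ 0)
    (hd : d.Coprime r) (hsd : s ^ d = 1) :
    ∃ (z n t : ↥(D.group k)) (w : W) (θ : (Fin l → ℤ) ≃+ (Fin l → ℤ)),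
      s = z * t * z⁻¹ ∧ z⁻¹ * σ z = n ∧ t ∈ TT D k ∧ t ^ d = 1 ∧ Rp cs (nsysTT hp cs hk r) w n ∧
      (∀ v, θ v = rep cs hp.isCartan w (g v)) ∧ IsFrob r e (MulAut.conj n * σ) ∧
      Fr cs hp.isCartan (TT D k) (XX D l k) (MulAut.conj n * σ) θ ∧ (MulAut.conj n * σ) t = t ∧
      (∀ a, θ a ∈ Sx cs hp.isCartan (ch hp) t ↔ a ∈ Sx cs hp.isCartan (ch hp) t) ∧
      (∀ a ∈ Sx cs hp.isCartan (ch hp) t, 0 ≤ a → 0 ≤ θ a) ∧
      ∀ y, (MulAut.conj n * σ) (z⁻¹ * y * z) = z⁻¹ * σ y * z := by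
  have := finite_W hp cs
  have hTL := TL_eq (k := k) hp hk
  have hXL := XL_eq (k := k) hp hk
  have H := tow (k := k) hp cs hk r
  have C := coordsL (k := k) hp cs hk r
  have hG := GG_eq_top (k := k) hp cs hk
  obtain ⟨y, hy⟩ := H944.TorAnyChev.exists_conj_mem_TT hp r hA hd0 hd hsd
  obtain ⟨t, z, n, θ, ht, hz, hn, hfr, F, htt, hpos, -⟩ := H238.PairW.exists_pair_conj_w hp cs hk he hσ Fσ hs hy
  have hst : s = z * t * z⁻¹ := by rw [← hz]; group
  have C' : Coords cs hp.isCartan (TL (Tj hp (k := k))) (nc hp k) (XL (Xj hp (k := k))) (xc hp) (ch hp) := by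
    rw [hTL, hXL]; exact C
  have F' : Fr cs hp.isCartan (TL (Tj hp (k := k))) (XL (Xj hp (k := k))) (MulAut.conj n * σ) θ := by
    rw [hTL, hXL]; exact F
  -- `n` normalises the torus
  have Fn := F.mul Fσ.inv
  have e1 : MulAut.conj n * σ * σ⁻¹ = MulAut.conj n := by group
  rw [e1] at Fn
  have hsep : ∀ a, IsRoot cs hp.isCartan a → ∃ s ∈ TL (Tj hp (k := k)), ∀ u ∈ XL (Xj hp (k := k)) a,
      u * s = s * u → u = 1 := by
    rw [hTL, hXL]
    exact fun a ha => sep hp cs hk r ha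
  obtain ⟨w, hw⟩ := rp_of_normalizer H hG hsep (y := n) (fun x => by
    rw [hTL]
    exact Fn.tor x)
  have hw' : Rp cs (nsysTT hp cs hk r) w n := by
    have key : ∀ (T : Subgroup ↥(D.group k)) (h1 : NSys M T (nc hp k)) (h2 : T = TT D k), Rp cs h1 w n →
        Rp cs (nsysTT hp cs hk r) w n := by
      intro T h1 h2 h3
      subst h2
      exact h3
    exact key _ _ hTL hw
  have Fw : Fr cs hp.isCartan (TT D k) (XX D l k) (MulAut.conj n) (repAut cs hp.isCartan w) := by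
    have h1 := Fr.conj H hw
    rwa [hTL, hXL] at h1
  have hθ : θ = g.trans (repAut cs hp.isCartan w) := fr_unique hp cs hk r F (Fw.mul Fσ)
  refine ⟨z, n, t, w, θ, hst, hn, ht, ?_, hw', ?_, hfr, F, htt, ?_, hpos, ?_⟩
  · have e2 : t = z⁻¹ * s * z⁻¹⁻¹ := by rw [inv_inv, hz]
    rw [e2, conj_pow, hsd, mul_one, mul_inv_cancel]
  · intro v
    rw [hθ]
    rfl
  · exact fun a => F'.mem_Sx C' (by rw [hTL]; exact ht) htt a
  · intro y
    rw [MulAut.mul_apply, MulAut.conj_apply, ← hn, map_mul, map_mul, map_inv]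
    group

end

section

variable {D : ChevalleyDatum} {l : ℕ} {M : CoxeterMatrix (Fin l)} {hp : IsType D l M} {r q : ℕ} [hr : Fact r.Prime]
  {K₀ : Type v} [Group K₀]

/-- **T1: the toral form of a `p'`-element `s ∈ Y^σ`.** `θ` : the action of `α = conj n * σ` on the roots. -/
structure TorForm (m : MData hp r q K₀) (s : ↥(D.group (KK r))) where
  z : ↥(D.group (KK r))
  n : ↥(D.group (KK r))
  t : ↥(D.group (KK r))
  w : M.Group
  θ : (Fin l → ℤ) ≃+ (Fin l → ℤ)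
  eq : s = z * t * z⁻¹
  lang : z⁻¹ * m.σ z = n
  mem : t ∈ TT D (KK r)
  rp : Rp M.toCoxeterSystem (nsysTT hp M.toCoxeterSystem (locFin r) r) w n
  hθ : ∀ v, θ v = rep M.toCoxeterSystem hp.isCartan w (m.g v)
  frob : IsFrob r m.e (MulAut.conj n * m.σ)
  fr : Fr M.toCoxeterSystem hp.isCartan (TT D (KK r)) (XX D l (KK r)) (MulAut.conj n * m.σ) θ
  fix : (MulAut.conj n * m.σ) t = t
  stab : ∀ a, θ a ∈ Sx M.toCoxeterSystem hp.isCartan (ch hp) t ↔ a ∈ Sx M.toCoxeterSystem hp.isCartan (ch hp) t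
  pos : ∀ a ∈ Sx M.toCoxeterSystem hp.isCartan (ch hp) t, 0 ≤ a → 0 ≤ θ a
  conj : ∀ y, (MulAut.conj n * m.σ) (z⁻¹ * y * z) = z⁻¹ * m.σ y * z

/-- **T1.** -/
theorem exists_torForm (m : MData hp r q K₀) {s : ↥(D.group (KK r))} (hs : m.σ s = s) {d : ℕ} (hd0 : d ≠ 0)
    (hd : d.Coprime r) (hsd : s ^ d = 1) : Nonempty (TorForm m s) := by
  obtain ⟨z, n, t, w, θ, h1, h2, h3, -, h5, h6, h7, h8, h9, h10, h11, h12⟩ :=
    exists_form hp M.toCoxeterSystem (TorAll.hAlg_of_isAlgebraic r _) (locFin r) m.he m.frob m.fr hs hd0 hd hsd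
  exact ⟨⟨z, n, t, w, θ, h1, h2, h3, h5, h6, h7, h8, h9, h10, h11, h12⟩⟩

variable {m : MData hp r q K₀} {s : ↥(D.group (KK r))}

/-- the automorphism `α` -/
noncomputable def TorForm.α (f : TorForm m s) : MulAut ↥(D.group (KK r)) := MulAut.conj f.n * m.σ

theorem TorForm.pow_eq_one (f : TorForm m s) {d : ℕ} (h : s ^ d = 1) : f.t ^ d = 1 := by
  have h1 := f.eq
  rw [h1, conj_pow] at h
  have h2 : f.t ^ d = f.z⁻¹ * (f.z * f.t ^ d * f.z⁻¹) * f.z := by group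
  rw [h2, h]
  group

/-- `y ↦ z⁻¹ y z` maps `Y^σ` to `Y^α` -/
theorem TorForm.fix_iff (f : TorForm m s) (y : ↥(D.group (KK r))) :
    f.α (f.z⁻¹ * y * f.z) = f.z⁻¹ * y * f.z ↔ m.σ y = y := by
  rw [TorForm.α, f.conj]
  constructor
  · intro h
    exact mul_left_cancel (mul_right_cancel h)
  · intro h
    rw [h]

/-- `y ↦ z y z⁻¹` maps `Y^α` to `Y^σ` -/
theorem TorForm.fix_iff' (f : TorForm m s) (y : ↥(D.group (KK r))) :
    m.σ (f.z * y * f.z⁻¹) = f.z * y * f.z⁻¹ ↔ f.α y = y := by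
  rw [← f.fix_iff]
  have e : f.z⁻¹ * (f.z * y * f.z⁻¹) * f.z = y := by group
  rw [e]

theorem TorForm.comm_iff (f : TorForm m s) (y : ↥(D.group (KK r))) :
    y * s = s * y ↔ (f.z⁻¹ * y * f.z) * f.t = f.t * (f.z⁻¹ * y * f.z) := by
  have e := f.eq
  constructor
  · intro h
    rw [e] at h
    calc f.z⁻¹ * y * f.z * f.t = f.z⁻¹ * (y * (f.z * f.t * f.z⁻¹)) * f.z := by group
      _ = f.z⁻¹ * (f.z * f.t * f.z⁻¹ * y) * f.z := by rw [h]
      _ = f.t * (f.z⁻¹ * y * f.z) := by group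
  · intro h
    rw [e]
    calc y * (f.z * f.t * f.z⁻¹) = f.z * (f.z⁻¹ * y * f.z * f.t) * f.z⁻¹ := by group
      _ = f.z * (f.t * (f.z⁻¹ * y * f.z)) * f.z⁻¹ := by rw [h]
      _ = f.z * f.t * f.z⁻¹ * y := by group

/-- **The centraliser of `s` in `Y^σ` and the centraliser of `t` in `Y^α`.** -/
noncomputable def TorForm.equiv (f : TorForm m s) : ↥(fixC m.σ s) ≃* ↥(fixC f.α f.t) where
  toFun y := ⟨f.z⁻¹ * y * f.z, mem_fixC.2 ⟨(f.fix_iff _).2 (mem_fixC.1 y.2).1, (f.comm_iff _).1 (mem_fixC.1 y.2).2⟩⟩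
  invFun y := ⟨f.z * y * f.z⁻¹, mem_fixC.2 ⟨(f.fix_iff' _).2 (mem_fixC.1 y.2).1, (f.comm_iff _).2 (by
    have e : f.z⁻¹ * (f.z * (y : ↥(D.group (KK r))) * f.z⁻¹) * f.z = y := by group
    rw [e]
    exact (mem_fixC.1 y.2).2)⟩⟩
  left_inv y := Subtype.ext (by
    show f.z * (f.z⁻¹ * (y : ↥(D.group (KK r))) * f.z) * f.z⁻¹ = y
    group)
  right_inv y := Subtype.ext (by
    show f.z⁻¹ * (f.z * (y : ↥(D.group (KK r))) * f.z⁻¹) * f.z = y
    group)
  map_mul' a b := Subtype.ext (by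
    show f.z⁻¹ * ((a : ↥(D.group (KK r))) * b) * f.z = f.z⁻¹ * a * f.z * (f.z⁻¹ * b * f.z)
    group)

theorem TorForm.coe_equiv (f : TorForm m s) (y : ↥(fixC m.σ s)) :
    (f.equiv y : ↥(D.group (KK r))) = f.z⁻¹ * y * f.z := rfl

theorem TorForm.coe_equiv_symm (f : TorForm m s) (y : ↥(fixC f.α f.t)) :
    (f.equiv.symm y : ↥(D.group (KK r))) = f.z * y * f.z⁻¹ := rfl

end

end Cfsg.Agent.H169.RG
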