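import Cfsg.Agent.H169.RG.Useful
import Cfsg.Agent.H398.RG.CondTF
import Cfsg.Agent.H398.RG.Long
import Cfsg.Agent.H884.NA.Exc
import Cfsg.Agent.Nodes.SimplyLaced

/-!
# S3509, box U: the final form (helper169)

* `SLD D` : simply laced (`D₄`, `E₆`, `E₇`, `E₈`);
* `useful_of` : simply laced, `f : TorForm m s`, `β` a `θ`-fixed long top of `Sx t` with the size condition: `UsY m.ι (fixedSubgroup m.σ) r M s`
  for some `M`, normalised by all elements commuting with `s` if the component group fixes `β`;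
* `exists_MPsi` : the weak form (helper607's `exists_MPsi`).
-/

set_option autoImplicit false
set_option linter.unusedSectionVars false

namespace Cfsg.Agent.H169.RG

open CoxeterSystem Cfsg Cfsg.Lie Cfsg.Lie.ChevalleyDatum
open Cfsg.Agent.ChevalleyStructure Cfsg.Agent.ChevalleyStructure.Elts Cfsg.Agent.ChevalleyStructure.CoxeterGeom
  Cfsg.Agent.ChevalleyStructure.CoxeterGeomTypes Cfsg.Agent.ChevalleyStructure.NPerm
open Cfsg.Agent.Tits.Roots Cfsg.Agent.Tits.Core Cfsg.Agent.Nodes Cfsg.Agent.Nodes.Reps Cfsg.Agent.Nodes.BNOf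
  Cfsg.Agent.Nodes.RGDChev Cfsg.Agent.Nodes.Bruhat Cfsg.Agent.Nodes.NormalForm
open Cfsg.Agent.KFacts.RgdField Cfsg.Agent.KFacts.RgdChevCoord
open Cfsg.Agent.BpExc Cfsg.Agent.BpExc.TorCent Cfsg.Agent.BpExc.TorChev Cfsg.Agent.BpExc.Tow
  Cfsg.Agent.BpExc.TowChev Cfsg.Agent.BpExc.Fr Cfsg.Agent.BpExc.Pair Cfsg.Agent.BpExc.LangFr Cfsg.Agent.GpExc.Field
  Cfsg.Agent.BpExc.NInst Cfsg.Agent.BpExc.NChev
open Cfsg.Agent.H469.Exc Cfsg.Agent.H316.U6 Cfsg.Agent.H28.RG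
open Cfsg.Agent.H441.RG (Wk.DFr ZForm)
open Cfsg.Agent.H884.NA (ExcAlt)
open Cfsg.Agent.H398.RG (MK Cond Base)
open Cfsg.Agent.H873.RG (NSA)
open Cfsg.Agent.H694.RG

universe u v

/-- simply laced data with at least 24 roots -/
class SLD (D : ChevalleyDatum) : Prop where
  nr : D.nroots = 24 ∨ 60 ≤ D.nroots

instance : SLD chevD4 := ⟨Or.inl (by decide +kernel)⟩
instance : SLD chevE6 := ⟨Or.inr (by decide +kernel)⟩
instance : SLD chevE7 := ⟨Or.inr (by decide +kernel)⟩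
instance : SLD chevE8 := ⟨Or.inr (by decide +kernel)⟩

theorem sld_h46 {D : ChevalleyDatum} {l : ℕ} {M : CoxeterMatrix (Fin l)} (hD : D.nroots = 24 ∨ 60 ≤ D.nroots)
    (hp : IsType D l M) : (∀ i j, M i j ≠ 4) ∧ ∀ i j, M i j ≠ 6 := by
  suffices h : (∀ i j, (M i j == 4) = false) ∧ ∀ i j, (M i j == 6) = false from
    ⟨fun i j hc => by
      have h1 := h.1 i j
      rw [hc] at h1
      exact absurd h1 (by decide), fun i j hc => by
      have h1 := h.2 i j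
      rw [hc] at h1
      exact absurd h1 (by decide)⟩
  simp only [IsType, typeList, List.mem_cons, List.not_mem_nil, or_false, Prod.mk.injEq, Sigma.mk.injEq] at hp
  rcases hp with ⟨rfl, rfl, hM⟩ | ⟨rfl, rfl, hM⟩ | ⟨rfl, rfl, hM⟩ | ⟨rfl, rfl, hM⟩ | ⟨rfl, rfl, hM⟩ | ⟨rfl, rfl, hM⟩ |
    ⟨rfl, rfl, hM⟩
  all_goals first
    | (exfalso; revert hD; decide +kernel)
    | (obtain rfl := eq_of_heq hM; constructor <;> decide +kernel)

/-- simply laced root systems -/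
theorem sl_of_sld {D : ChevalleyDatum} [hD : SLD D] {l : ℕ} {M : CoxeterMatrix (Fin l)} (hp : IsType D l M) :
    Cfsg.Agent.KFacts.RgdSL.SL M.toCoxeterSystem hp.isCartan := by
  have := finite_W hp M.toCoxeterSystem
  obtain ⟨h4, h6⟩ := sld_h46 hD.nr hp
  exact fun _ _ hx hy => Nodes.SimplyLaced.cpr_symm M.toCoxeterSystem _ h4 h6 hx hy

section

variable {D : ChevalleyDatum} {l : ℕ} {M : CoxeterMatrix (Fin l)} {hp : IsType D l M} {r : ℕ} [hr : Fact r.Prime]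
  {e : ℕ} {α : MulAut ↥(D.group (KK r))} {θ : (Fin l → ℤ) ≃+ (Fin l → ℤ)} {t : ↥(D.group (KK r))} {β : Fin l → ℤ}

/-- **The condition on the base pair**, simply laced, all `q` -/
theorem cond_all [SLD D] (d : H441.RG.Wk.DFr hp M.toCoxeterSystem r e α θ t) [Finite ↥(fixC α t)]
    (Bβ : Top M.toCoxeterSystem hp.isCartan (ch hp) θ t β) (hQ : SizeOK (r ^ e) (Gam hp t β).ncard) :
    Cond (H441.RG.KT hp α t) (XX D l (KK r) β ⊓ fixedSubgroup α) (XX D l (KK r) (-β) ⊓ fixedSubgroup α) :=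
  H398.RG.cond_sl_nc d Bβ (sl_of_sld hp) (fun h => le_trans (by norm_num) (hQ.1 h)) fun h => hQ.2 (Or.inl h)

/-- **Not one of the exceptional alternating groups.** -/
theorem no_exc (d : H441.RG.Wk.DFr hp M.toCoxeterSystem r e α θ t) [Finite ↥(fixC α t)]
    (Bβ : Top M.toCoxeterSystem hp.isCartan (ch hp) θ t β) (hQ : SizeOK (r ^ e) (Gam hp t β).ncard) :
    ∀ j, ExcAlt (r ^ e) j → ¬ Nonempty ((↥(MK (H441.RG.KT hp α t) (XX D l (KK r) β ⊓ fixedSubgroup α)) ⧸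
      Subgroup.center ↥(MK (H441.RG.KT hp α t) (XX D l (KK r) β ⊓ fixedSubgroup α))) ≃*
        alternatingGroup (Fin j)) :=
  H884.NA.no_alt d Bβ ⟨hQ.1, fun h => hQ.2 (Or.inr h)⟩

end

section

variable {D : ChevalleyDatum} {l : ℕ} {M : CoxeterMatrix (Fin l)} {hp : IsType D l M} {r q : ℕ} [hr : Fact r.Prime]
  {K₀ : Type} [Group K₀] {m : MData hp r q K₀} {β : Fin l → ℤ} {s : ↥(D.group (KK r))} (f : TorForm m s)

/-- **Box U**, simply laced types. -/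
theorem useful_of [SLD D] [Finite M.Group] {U : ↥(D.group (KK r)) → Subgroup ↥(D.group (KK r))}
    (hF : Cfsg.Agent.H327.RG.Fr m.ι m.σ)
    (hY : YData m.ι (fixedSubgroup m.σ) r (LR m) U) (hs : (orderOf s).Coprime r) (hs1 : s ≠ 1)
    (Bβ : Top M.toCoxeterSystem hp.isCartan (ch hp) f.θ f.t β)
    (hlong : ∃ w : M.Group, β = rep M.toCoxeterSystem hp.isCartan w (vec D l (D.nroots - 1)))
    (hQ : SizeOK q (Gam hp f.t β).ncard) :
    ∃ M' : Subgroup ↥(D.group (KK r)), UsY m.ι (fixedSubgroup m.σ) r M' s ∧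
      ((∀ w ∈ PP M.toCoxeterSystem hp.isCartan (ch hp) f.t, rep M.toCoxeterSystem hp.isCartan w β = β) →
        ∀ c ∈ fixedSubgroup m.σ, c * s = s * c → c ∈ Subgroup.normalizer (M' : Set ↥(D.group (KK r)))) := by
  have hz := H441.RG.zform f
  have := hz.finite
  have hQ' : SizeOK (r ^ m.e) (Gam hp f.t β).ncard := by rw [m.hq]; exact hQ
  exact ⟨_, usY_gen f hF hY hs hs1 Bβ hlong (cond_all hz.d Bβ hQ') (no_exc hz.d Bβ hQ'),
    fun hPP c hc hcs => norm_MZ f Bβ hPP hc hcs⟩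

end

section

variable {D : ChevalleyDatum} {l : ℕ} {M : CoxeterMatrix (Fin l)} {hp : IsType D l M} {r q : ℕ} [hr : Fact r.Prime]
  {K₀ : Type v} [Group K₀] {m : MData hp r q K₀} {β : Fin l → ℤ}

/-- **Box U, weak form**, simply laced types. -/
theorem exists_MPsi [SLD D] [Finite M.Group] {z n t : ↥(D.group (KK r))} {θ : (Fin l → ℤ) ≃+ (Fin l → ℤ)}
    (hn : z⁻¹ * m.σ z = n)
    (d : H441.RG.Wk.DFr hp M.toCoxeterSystem r m.e (MulAut.conj n * m.σ) θ t)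
    (Bβ : Top M.toCoxeterSystem hp.isCartan (ch hp) θ t β)
    (hlong : ∃ w : M.Group, β = rep M.toCoxeterSystem hp.isCartan w (vec D l (D.nroots - 1)))
    (hQ : SizeOK q (Gam hp t β).ncard)
    (hne : ∃ a, IsRoot M.toCoxeterSystem hp.isCartan a ∧ a ∉ Sx M.toCoxeterSystem hp.isCartan (ch hp) t) :
    ∃ M' : Subgroup ↥(D.group (KK r)), M' ≤ m.ι.range ∧ M' ≠ m.ι.range ∧ ⁅M', M'⁆ = M' ∧
      (∃ (S' : Type) (_ : Group S') (_ : Finite S') (π : M' →* S'),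
        Function.Surjective π ∧ π.ker ≤ Subgroup.center M' ∧ NSA S') ∧
      (∀ c ∈ H441.RG.KT hp (MulAut.conj n * m.σ) t, z * c * z⁻¹ ∈ Subgroup.normalizer (M' : Set ↥(D.group (KK r)))) ∧
      ((∀ w ∈ PP M.toCoxeterSystem hp.isCartan (ch hp) t, rep M.toCoxeterSystem hp.isCartan w β = β) →
        ∀ c ∈ fixC (MulAut.conj n * m.σ) t, z * c * z⁻¹ ∈ Subgroup.normalizer (M' : Set ↥(D.group (KK r)))) ∧
      (∀ x ∈ M', (z * t * z⁻¹) * x = x * (z * t * z⁻¹)) ∧ ∃ v ∈ M', LR m v := by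
  have hz := zform_weak hn d
  have := hz.finite
  have hQ' : SizeOK (r ^ m.e) (Gam hp t β).ncard := by rw [m.hq]; exact hQ
  have hc := cond_all hz.d Bβ hQ'
  obtain ⟨h1, h2, h3, h4, h5⟩ := core_useful hz Bβ (lr_weak hn d.fr hlong Bβ.fix) hc (no_exc hz.d Bβ hQ') hne
  have e1 : ∀ c : ↥(D.group (KK r)), z⁻¹ * (z * c * z⁻¹) * z = c := fun c => by group
  refine ⟨_, h1, h2, h3, h4, fun c hc => ?_, fun hPP c hc => ?_, fun x hx => ?_, h5⟩
  · exact H441.RG.ZForm.norm_of_mem (by rw [e1]; exact hc)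
  · exact hz.norm_strong Bβ.mem.1 hPP (by rw [e1]; exact hc)
  · obtain ⟨y, hy, rfl⟩ := hx
    have hMC : MK (H441.RG.KT hp (MulAut.conj n * m.σ) t) (XX D l (KK r) β ⊓ fixedSubgroup (MulAut.conj n * m.σ)) ≤
        fixC (MulAut.conj n * m.σ) t := (H398.RG.MK_le_self (baseF hz.d Bβ).leX).trans hz.KT_le
    have h6 := (mem_fixC.1 (hMC hy)).2
    change (z * t * z⁻¹) * (z * y * z⁻¹) = z * y * z⁻¹ * (z * t * z⁻¹)
    calc (z * t * z⁻¹) * (z * y * z⁻¹) = z * (t * y) * z⁻¹ := by group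
      _ = z * (y * t) * z⁻¹ := by rw [h6]
      _ = _ := by group

end

section F4

variable {M : CoxeterMatrix (Fin 4)} {hp : IsType chevF4 4 M} {r q : ℕ} [hr : Fact r.Prime]
  {K₀ : Type} [Group K₀] {m : MData hp r q K₀} {β : Fin 4 → ℤ} {s : ↥(chevF4.group (KK r))} (f : TorForm m s)

/-- **Box U**, `F₄`, `q ≥ 3`. -/
theorem useful_of_F4 [Finite M.Group] {U : ↥(chevF4.group (KK r)) → Subgroup ↥(chevF4.group (KK r))}
    (hF : Cfsg.Agent.H327.RG.Fr m.ι m.σ)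
    (hY : YData m.ι (fixedSubgroup m.σ) r (LR m) U) (hs : (orderOf s).Coprime r) (hs1 : s ≠ 1)
    (Bβ : Top M.toCoxeterSystem hp.isCartan (ch hp) f.θ f.t β)
    (hlong : ∃ w : M.Group, β = rep M.toCoxeterSystem hp.isCartan w (vec chevF4 4 (chevF4.nroots - 1)))
    (hq3 : 3 ≤ q) (hQ : SizeOK q (Gam hp f.t β).ncard) :
    ∃ M' : Subgroup ↥(chevF4.group (KK r)), UsY m.ι (fixedSubgroup m.σ) r M' s ∧
      ((∀ w ∈ PP M.toCoxeterSystem hp.isCartan (ch hp) f.t, rep M.toCoxeterSystem hp.isCartan w β = β) →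
        ∀ c ∈ fixedSubgroup m.σ, c * s = s * c → c ∈ Subgroup.normalizer (M' : Set ↥(chevF4.group (KK r)))) := by
  have hz := H441.RG.zform f
  have := hz.finite
  have hQ' : SizeOK (r ^ m.e) (Gam hp f.t β).ncard := by rw [m.hq]; exact hQ
  refine ⟨_, usY_gen f hF hY hs hs1 Bβ hlong (H398.RG.F4_tor f Bβ hlong hq3 fun h => ?_) (no_exc hz.d Bβ hQ'),
    fun hPP c hc hcs => norm_MZ f Bβ hPP hc hcs⟩
  obtain ⟨a, ha⟩ := Set.nonempty_of_ncard_ne_zero (Nat.one_le_iff_ne_zero.1 (hQ.2 (Or.inl h)))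
  exact ⟨a, ha.1, ha.2⟩

end F4

end Cfsg.Agent.H169.RG
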