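import Cfsg.Agent.H169.RG.Pair
import Cfsg.Agent.H655.Mono.Psi
import Cfsg.Agent.H655.Mono.SLTwo
import Cfsg.Agent.BpExc.RowsUntw
import Cfsg.Agent.GenExc.Main

/-!
# S3509, box U: the fixed points of a frame automorphism in `⟨X_β, X_{-β}⟩`, `β` fixed (helper169)

* `img_fr` : `τ` a frame automorphism with `IsFrob r e τ`, `γ β = β` : `Img (r ^ e) (X_β^τ) (X_{-β}^τ)`;
* `TorForm.cw`, `TorForm.frK` : the frame of `H169/RG/Pair.lean` for `f : TorForm m s`.
-/

set_option autoImplicit false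
set_option linter.unusedSectionVars false

namespace Cfsg.Agent.H169.RG

open CoxeterSystem Cfsg Cfsg.Lie Cfsg.Lie.ChevalleyDatum
open Cfsg.Agent.ChevalleyStructure Cfsg.Agent.ChevalleyStructure.Elts Cfsg.Agent.ChevalleyStructure.CoxeterGeom
  Cfsg.Agent.ChevalleyStructure.CoxeterGeomTypes Cfsg.Agent.ChevalleyStructure.NPerm
open Cfsg.Agent.Tits.Roots Cfsg.Agent.Tits.Core Cfsg.Agent.Nodes Cfsg.Agent.Nodes.Reps Cfsg.Agent.Nodes.BNOf
  Cfsg.Agent.Nodes.RGDChev Cfsg.Agent.Nodes.Bruhat Cfsg.Agent.Nodes.NormalForm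
open Cfsg.Agent.KFacts.RgdField Cfsg.Agent.KFacts.RgdChevCoord
open Cfsg.Agent.BpExc Cfsg.Agent.BpExc.TorCent Cfsg.Agent.BpExc.TorChev Cfsg.Agent.BpExc.Tow
  Cfsg.Agent.BpExc.TowChev Cfsg.Agent.BpExc.Fr Cfsg.Agent.BpExc.Pair Cfsg.Agent.BpExc.LangFr Cfsg.Agent.GpExc.Field
  Cfsg.Agent.BpExc.NInst Cfsg.Agent.BpExc.NChev
open Cfsg.Agent.ChevalleyStructure.SL2Hom (up lo)
open Cfsg.Agent.H469.Exc Cfsg.Agent.H316.U6 Cfsg.Agent.H818.Mono Cfsg.Agent.H496.Mono Cfsg.Agent.H655.Mono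
open Cfsg.Agent.OddHalf.LongSL.Chev (phi)

universe u v

section

variable {D : ChevalleyDatum} {l : ℕ} {M : CoxeterMatrix (Fin l)} {hp : IsType D l M} {r : ℕ} [hr : Fact r.Prime]

/-- as `Img`, with the kernel -/
def ImgK {Y : Type*} [Group Y] (q : ℕ) (X X' : Subgroup Y) : Prop :=
  ∃ (F : Type) (_ : Field F) (_ : Fintype F) (φ : Matrix.SpecialLinearGroup (Fin 2) F →* Y), Fintype.card F = q ∧
    (∀ y, y ∈ X ↔ ∃ t, φ (up t) = y) ∧ (∀ y, y ∈ X' ↔ ∃ t, φ (lo t) = y) ∧ (∀ A, φ A = 1 → A = 1 ∨ A = -1)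

theorem ImgK.img {Y : Type*} [Group Y] {q : ℕ} {X X' : Subgroup Y} (h : ImgK q X X') : Img q X X' := by
  obtain ⟨F, _, _, φ, hF, h1, h2, h3⟩ := h
  refine ⟨F, _, _, φ, hF, h1, h2, fun t ht => ?_⟩
  rcases h3 _ ht with h4 | h4
  · have h5 := congrArg (fun A : Matrix.SpecialLinearGroup (Fin 2) F => A.1 0 1) h4
    simpa [up] using h5
  · have h5 := congrArg (fun A : Matrix.SpecialLinearGroup (Fin 2) F => A.1 0 1) h4
    simpa [up] using h5

theorem ImgK.conj {Y : Type*} [Group Y] {q : ℕ} {X X' : Subgroup Y} (h : ImgK q X X') (y : Y) :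
    ImgK q (cjS y X) (cjS y X') := by
  obtain ⟨F, _, _, φ, hF, h1, h2, h3⟩ := h
  refine ⟨F, _, _, (MulAut.conj y).toMonoidHom.comp φ, hF, fun z => ?_, fun z => ?_, fun t ht => h3 t ?_⟩
  · rw [mem_cjS, h1]
    constructor
    · rintro ⟨t, ht⟩
      refine ⟨t, ?_⟩
      change y * φ (up t) * y⁻¹ = z
      rw [ht]
      group
    · rintro ⟨t, ht⟩
      refine ⟨t, ?_⟩
      have ht' : y * φ (up t) * y⁻¹ = z := ht
      rw [← ht']
      group
  · rw [mem_cjS, h2]
    constructor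
    · rintro ⟨t, ht⟩
      refine ⟨t, ?_⟩
      change y * φ (lo t) * y⁻¹ = z
      rw [ht]
      group
    · rintro ⟨t, ht⟩
      refine ⟨t, ?_⟩
      have ht' : y * φ (lo t) * y⁻¹ = z := ht
      rw [← ht']
      group
  · have ht' : y * φ t * y⁻¹ = 1 := ht
    have e : φ t = y⁻¹ * (y * φ t * y⁻¹) * y := by group
    rw [e, ht']
    group

theorem ImgK.range {Y : Type*} [Group Y] {q : ℕ} {X X' : Subgroup Y} (h : ImgK q X X') :
    ∃ (F : Type) (_ : Field F) (_ : Fintype F) (φ : Matrix.SpecialLinearGroup (Fin 2) F →* Y), Fintype.card F = q ∧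
      φ.range = X ⊔ X' ∧ φ.ker ≤ Subgroup.center _ := by
  obtain ⟨F, _, _, φ, hF, h1, h2, h3⟩ := h
  refine ⟨F, _, _, φ, hF, le_antisymm ?_ (sup_le ?_ ?_), ?_⟩
  · rintro _ ⟨A, rfl⟩
    have h4 : Subgroup.closure (Set.range (up (F := F)) ∪ Set.range (lo (F := F))) ≤ (X ⊔ X').comap φ := by
      rw [Subgroup.closure_le]
      rintro _ (⟨a, rfl⟩ | ⟨a, rfl⟩)
      · exact Subgroup.mem_sup_left ((h1 _).2 ⟨a, rfl⟩)
      · exact Subgroup.mem_sup_right ((h2 _).2 ⟨a, rfl⟩)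
    exact h4 (Cfsg.Agent.ChevalleyStructure.SL2Hom.mem_closure_SL2 A)
  · intro y hy
    obtain ⟨t, rfl⟩ := (h1 y).1 hy
    exact ⟨_, rfl⟩
  · intro y hy
    obtain ⟨t, rfl⟩ := (h2 y).1 hy
    exact ⟨_, rfl⟩
  · intro A hA
    rw [Subgroup.mem_center_iff]
    intro B
    rcases h3 A hA with rfl | rfl
    · rw [one_mul, mul_one]
    · rw [neg_mul, mul_neg, one_mul, mul_one]

/-- the simple root -/
theorem img_simple {e : ℕ} (he : 0 < e) {τ : MulAut ↥(D.group (KK r))} {γ : (Fin l → ℤ) ≃+ (Fin l → ℤ)}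
    (hτ : IsFrob r e τ) (F : Fr M.toCoxeterSystem hp.isCartan (TT D (KK r)) (XX D l (KK r)) τ γ) {i0 : Fin l}
    (hg : γ (sr i0) = sr i0) :
    ImgK (r ^ e) (XX D l (KK r) (sr i0) ⊓ fixedSubgroup τ) (XX D l (KK r) (-sr i0) ⊓ fixedSubgroup τ) := by
  have hr1 : 1 < r := hr.out.one_lt
  have hr0 := isRoot_sr M.toCoxeterSystem hp.isCartan i0
  have hq1 : 1 < r ^ e := Nat.one_lt_pow he.ne' hr1
  obtain ⟨c, hc, hact⟩ := act_pos hτ F hg
  -- the constant
  obtain ⟨d, hd⟩ := IsAlgClosed.exists_pow_nat_eq (c⁻¹) (n := r ^ e - 1) (by omega)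
  have hd0 : d ≠ 0 := by
    rintro rfl
    rw [zero_pow (by omega)] at hd
    exact inv_ne_zero hc hd.symm
  have hdq : c * d ^ (r ^ e) = d := by
    have h1 : d ^ (r ^ e) = d ^ (r ^ e - 1) * d := by
      rw [← pow_succ]
      congr 1
      omega
    rw [h1, hd, ← mul_assoc, mul_inv_cancel₀ hc, one_mul]
  -- the field
  let F0 := GaloisField r e
  letI : Fintype F0 := Fintype.ofFinite F0
  obtain ⟨f⟩ := RowsUntw.exists_emb r F0
  have hF0 : Fintype.card F0 = r ^ e := by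
    rw [← Nat.card_eq_fintype_card]
    exact GaloisField.card r e he.ne'
  have hfix : ∀ b : KK r, b ^ (r ^ e) = b ↔ ∃ t, f t = b := by
    intro b
    have h1 := Emb.fix_iff_range (f := f) (φ := iterateFrobenius (KK r) r e) (fun t => by
      rw [iterateFrobenius_def, hF0]) b
    rw [iterateFrobenius_def] at h1
    exact h1
  have hup : ∀ a : KK r, τ (xc hp (sr i0) a) = xc hp (sr i0) (c * a ^ (r ^ e)) := by
    intro a
    have h1 := hact (up a)
    rw [H655.Mono.map_up, H655.Mono.dc_up, phi_up', phi_up', iterateFrobenius_def] at h1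
    exact h1
  have hlo : ∀ a : KK r, τ (xc hp (-sr i0) a) = xc hp (-sr i0) (c⁻¹ * a ^ (r ^ e)) := by
    intro a
    have h1 := hact (lo a)
    rw [H655.Mono.map_lo, H655.Mono.dc_lo, phi_lo', phi_lo', iterateFrobenius_def] at h1
    exact h1
  have C := coordsL hp M.toCoxeterSystem (locFin r) r
  refine ⟨F0, inferInstance, inferInstance,
    ((phi hp (KK r) i0).comp (dc d hd0)).comp (Matrix.SpecialLinearGroup.map f), hF0, fun y => ?_, fun y => ?_,
    fun t ht => ?_⟩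
  · constructor
    · rintro ⟨h1, h2⟩
      obtain ⟨a, rfl⟩ := (H655.Mono.mem_X hp r hr0).1 h1
      have h3 : c * a ^ (r ^ e) = a := by
        have h4 : τ (xc hp (sr i0) a) = xc hp (sr i0) a := h2
        rw [hup] at h4
        exact (C.coord _ hr0).inj h4
      obtain ⟨t, ht⟩ := (hfix (a * d⁻¹)).1 (by
        rw [mul_pow, inv_pow]
        have h4 : a ^ (r ^ e) = c⁻¹ * a := by
          rw [← h3, ← mul_assoc, inv_mul_cancel₀ hc, one_mul, h3]
        have h5 : d ^ (r ^ e) = c⁻¹ * d := by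
          rw [← hdq, ← mul_assoc, inv_mul_cancel₀ hc, one_mul, hdq]
        rw [h4, h5, mul_inv, inv_inv]
        field_simp)
      refine ⟨t, ?_⟩
      show phi hp (KK r) i0 (dc d hd0 (Matrix.SpecialLinearGroup.map f (up t))) = _
      rw [H655.Mono.map_up, H655.Mono.dc_up, phi_up', ht]
      congr 1
      field_simp
    · rintro ⟨t, rfl⟩
      have h1 : (((phi hp (KK r) i0).comp (dc d hd0)).comp (Matrix.SpecialLinearGroup.map f)) (up t) =
          xc hp (sr i0) (d * f t) := by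
        show phi hp (KK r) i0 (dc d hd0 (Matrix.SpecialLinearGroup.map f (up t))) = _
        rw [H655.Mono.map_up, H655.Mono.dc_up, phi_up']
      rw [h1]
      refine ⟨(H655.Mono.mem_X hp r hr0).2 ⟨_, rfl⟩, ?_⟩
      show τ (xc hp (sr i0) (d * f t)) = xc hp (sr i0) (d * f t)
      rw [hup, mul_pow, (hfix (f t)).2 ⟨t, rfl⟩, ← mul_assoc, hdq]
  · constructor
    · rintro ⟨h1, h2⟩
      obtain ⟨a, rfl⟩ := (H655.Mono.mem_X hp r hr0.neg).1 h1
      have h3 : c⁻¹ * a ^ (r ^ e) = a := by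
        have h4 : τ (xc hp (-sr i0) a) = xc hp (-sr i0) a := h2
        rw [hlo] at h4
        exact (C.coord _ hr0.neg).inj h4
      obtain ⟨t, ht⟩ := (hfix (a * d)).1 (by
        rw [mul_pow]
        have h4 : a ^ (r ^ e) = c * a := by
          rw [← h3, ← mul_assoc, mul_inv_cancel₀ hc, one_mul, h3]
        have h5 : d ^ (r ^ e) = c⁻¹ * d := by
          rw [← hdq, ← mul_assoc, inv_mul_cancel₀ hc, one_mul, hdq]
        rw [h4, h5]
        field_simp)
      refine ⟨t, ?_⟩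
      show phi hp (KK r) i0 (dc d hd0 (Matrix.SpecialLinearGroup.map f (lo t))) = _
      rw [H655.Mono.map_lo, H655.Mono.dc_lo, phi_lo', ht]
      congr 1
      field_simp
    · rintro ⟨t, rfl⟩
      have h1 : (((phi hp (KK r) i0).comp (dc d hd0)).comp (Matrix.SpecialLinearGroup.map f)) (lo t) =
          xc hp (-sr i0) (d⁻¹ * f t) := by
        show phi hp (KK r) i0 (dc d hd0 (Matrix.SpecialLinearGroup.map f (lo t))) = _
        rw [H655.Mono.map_lo, H655.Mono.dc_lo, phi_lo']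
      rw [h1]
      refine ⟨(H655.Mono.mem_X hp r hr0.neg).2 ⟨_, rfl⟩, ?_⟩
      show τ (xc hp (-sr i0) (d⁻¹ * f t)) = xc hp (-sr i0) (d⁻¹ * f t)
      have h5 : c⁻¹ * d⁻¹ ^ (r ^ e) = d⁻¹ := by
        rw [inv_pow, ← mul_inv, hdq]
      rw [hlo, mul_pow, (hfix (f t)).2 ⟨t, rfl⟩, ← mul_assoc, h5]
  · have h1 : phi hp (KK r) i0 (dc d hd0 (Matrix.SpecialLinearGroup.map f t)) = 1 := ht
    have hinj : ∀ B, B = 1 ∨ B = -1 → dc d hd0 (Matrix.SpecialLinearGroup.map f t) = B → t = 1 ∨ t = -1 := by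
      intro B hB h2
      have e00 : f (t.1 0 0) = B.1 0 0 := by
        rw [← h2, H655.Mono.dc_apply]
        rfl
      have e01 : d * f (t.1 0 1) = B.1 0 1 := by
        rw [← h2, H655.Mono.dc_apply]
        rfl
      have e10 : d⁻¹ * f (t.1 1 0) = B.1 1 0 := by
        rw [← h2, H655.Mono.dc_apply]
        rfl
      have e11 : f (t.1 1 1) = B.1 1 1 := by
        rw [← h2, H655.Mono.dc_apply]
        rfl
      rcases hB with rfl | rfl
      · left
        apply Subtype.ext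
        ext i j
        fin_cases i <;> fin_cases j
        · have : f (t.1 0 0) = f 1 := by rw [e00, map_one]; rfl
          exact f.injective this
        · have h3 : d * f (t.1 0 1) = 0 := e01
          exact (map_eq_zero f).1 ((mul_eq_zero.1 h3).resolve_left hd0)
        · have h3 : d⁻¹ * f (t.1 1 0) = 0 := e10
          exact (map_eq_zero f).1 ((mul_eq_zero.1 h3).resolve_left (inv_ne_zero hd0))
        · have : f (t.1 1 1) = f 1 := by rw [e11, map_one]; rfl
          exact f.injective this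
      · right
        apply Subtype.ext
        ext i j
        fin_cases i <;> fin_cases j
        · have : f (t.1 0 0) = f (-1) := by
            rw [e00, map_neg, map_one]
            simp
          simpa using f.injective this
        · have h3 : d * f (t.1 0 1) = 0 := by rw [e01]; simp
          simpa using (map_eq_zero f).1 ((mul_eq_zero.1 h3).resolve_left hd0)
        · have h3 : d⁻¹ * f (t.1 1 0) = 0 := by rw [e10]; simp
          simpa using (map_eq_zero f).1 ((mul_eq_zero.1 h3).resolve_left (inv_ne_zero hd0))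
        · have : f (t.1 1 1) = f (-1) := by
            rw [e11, map_neg, map_one]
            simp
          simpa using f.injective this
    exact hinj _ (phi_ker hp i0 h1) rfl

/-- **The fixed points in `⟨X_β, X_{-β}⟩`**, with the kernel -/
theorem imgK_fr {e : ℕ} (he : 0 < e) {τ : MulAut ↥(D.group (KK r))} {γ : (Fin l → ℤ) ≃+ (Fin l → ℤ)}
    (hτ : IsFrob r e τ) (F : Fr M.toCoxeterSystem hp.isCartan (TT D (KK r)) (XX D l (KK r)) τ γ) {β : Fin l → ℤ}
    (hβ : IsRoot M.toCoxeterSystem hp.isCartan β) (hg : γ β = β) :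
    ImgK (r ^ e) (XX D l (KK r) β ⊓ fixedSubgroup τ) (XX D l (KK r) (-β) ⊓ fixedSubgroup τ) := by
  obtain ⟨w, i0, rfl⟩ := id hβ
  obtain ⟨n, -, hn⟩ := (tow (k := KK r) hp M.toCoxeterSystem (locFin r) r).exists_rp w
  have hn' : NR hp r w n := hn
  have Fn := nr_frame hn'
  have Fn' := nr_frame (nr_inv hn')
  have F' := (Fn'.mul F).mul Fn
  have hτ' : IsFrob r e (MulAut.conj n⁻¹ * τ * MulAut.conj n) := by
    have h1 := (hτ.conj_mul n⁻¹).mul (IsFrob.conj (p := r) n)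
    rwa [add_zero] at h1
  have hsr := isRoot_sr M.toCoxeterSystem hp.isCartan i0
  have hI := (img_simple (hp := hp) he hτ' F' (i0 := i0) (by
    show rep M.toCoxeterSystem hp.isCartan w⁻¹ (γ (rep M.toCoxeterSystem hp.isCartan w (sr i0))) = sr i0
    rw [hg, ← rep_mul_apply, inv_mul_cancel, map_one, Module.End.one_apply])).conj n
  have key : ∀ a, IsRoot M.toCoxeterSystem hp.isCartan a →
      cjS n (XX D l (KK r) a ⊓ fixedSubgroup (MulAut.conj n⁻¹ * τ * MulAut.conj n)) =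
        XX D l (KK r) (rep M.toCoxeterSystem hp.isCartan w a) ⊓ fixedSubgroup τ := by
    intro a ha
    ext y
    rw [mem_cjS, Subgroup.mem_inf, Subgroup.mem_inf]
    have h1 : n⁻¹ * y * n ∈ XX D l (KK r) a ↔ y ∈ XX D l (KK r) (rep M.toCoxeterSystem hp.isCartan w a) := by
      have h2 := Fn.map a ha (n⁻¹ * y * n)
      rw [MulAut.conj_apply, repAut_apply] at h2
      have e1 : n * (n⁻¹ * y * n) * n⁻¹ = y := by group
      rw [e1] at h2
      exact h2.symm
    have h2 : n⁻¹ * y * n ∈ fixedSubgroup (MulAut.conj n⁻¹ * τ * MulAut.conj n) ↔ y ∈ fixedSubgroup τ := by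
      show n⁻¹ * τ (n * (n⁻¹ * y * n) * n⁻¹) * n⁻¹⁻¹ = n⁻¹ * y * n ↔ τ y = y
      have e1 : n * (n⁻¹ * y * n) * n⁻¹ = y := by group
      rw [e1, inv_inv]
      constructor
      · intro h
        exact mul_left_cancel (mul_right_cancel h)
      · intro h
        rw [h]
    rw [h1, h2]
  rw [key _ hsr, key _ hsr.neg, map_neg] at hI
  exact hI

/-- **The fixed points in `⟨X_β, X_{-β}⟩`.** -/
theorem img_fr {e : ℕ} (he : 0 < e) {τ : MulAut ↥(D.group (KK r))} {γ : (Fin l → ℤ) ≃+ (Fin l → ℤ)}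
    (hτ : IsFrob r e τ) (F : Fr M.toCoxeterSystem hp.isCartan (TT D (KK r)) (XX D l (KK r)) τ γ) {β : Fin l → ℤ}
    (hβ : IsRoot M.toCoxeterSystem hp.isCartan β) (hg : γ β = β) :
    Img (r ^ e) (XX D l (KK r) β ⊓ fixedSubgroup τ) (XX D l (KK r) (-β) ⊓ fixedSubgroup τ) :=
  (imgK_fr (hp := hp) he hτ F hβ hg).img

end

section TF

variable {D : ChevalleyDatum} {l : ℕ} {M : CoxeterMatrix (Fin l)} {hp : IsType D l M} {r q : ℕ} [hr : Fact r.Prime]
  {K₀ : Type v} [Group K₀] {m : MData hp r q K₀} {s : ↥(D.group (KK r))}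

theorem coordK : Coords M.toCoxeterSystem hp.isCartan (TL (Tj hp (k := KK r))) (nc hp (KK r)) (XL (Xj hp (k := KK r)))
    (xc hp) (ch hp) := by
  rw [TL_eq hp (locFin r), XL_eq hp (locFin r)]
  exact coordsL hp M.toCoxeterSystem (locFin r) r

theorem TorForm.frK (f : TorForm m s) : Fr M.toCoxeterSystem hp.isCartan (TL (Tj hp (k := KK r)))
    (XL (Xj hp (k := KK r))) f.α f.θ := by
  rw [TL_eq hp (locFin r), XL_eq hp (locFin r)]
  exact f.fr

/-- the frame of `H169/RG/Pair.lean` for a pair `(θ, t)`, weak hypothesis -/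
theorem cwK {θ : (Fin l → ℤ) ≃+ (Fin l → ℤ)} {t : ↥(D.group (KK r))} (ht : t ∈ TT D (KK r))
    (hS : ∀ a, θ a ∈ Sx M.toCoxeterSystem hp.isCartan (ch hp) t ↔ a ∈ Sx M.toCoxeterSystem hp.isCartan (ch hp) t)
    (hpos : ∀ a ∈ Sx M.toCoxeterSystem hp.isCartan (ch hp) t, 0 ≤ a → 0 ≤ θ a) :
    CW M.toCoxeterSystem hp.isCartan (Tj hp (k := KK r)) (Xj hp (k := KK r)) (ch hp) θ t where
  hG := GG_eq_top hp M.toCoxeterSystem (locFin r)
  hsep := by
    rw [TL_eq hp (locFin r), XL_eq hp (locFin r)]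
    exact fun a ha => NChev.sep hp M.toCoxeterSystem (locFin r) r ha
  hA := by
    rw [TL_eq hp (locFin r)]
    exact chAddL hp M.toCoxeterSystem (locFin r) r
  hcom := by
    rw [XL_eq hp (locFin r)]
    exact Cfsg.Agent.GenExc.Chev.commOK hp M.toCoxeterSystem
  hab := by
    rw [TL_eq hp (locFin r)]
    exact TT_comm hp
  ht := by rw [TL_eq hp (locFin r)]; exact ht
  hS := hS
  hpos := hpos

theorem TorForm.cw (f : TorForm m s) :
    CW M.toCoxeterSystem hp.isCartan (Tj hp (k := KK r)) (Xj hp (k := KK r)) (ch hp) f.θ f.t :=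
  cwK f.mem f.stab f.pos

theorem Xb_eq (α : MulAut ↥(D.group (KK r))) (a : Fin l → ℤ) :
    Xb (Xj hp (k := KK r)) α a = XX D l (KK r) a ⊓ fixedSubgroup α := by
  unfold Xb
  rw [XL_eq hp (locFin r)]

end TF

end Cfsg.Agent.H169.RG
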