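import Cfsg.Agent.H169.RG.Toral
import Cfsg.Agent.H316.U6Norm
import Cfsg.Agent.H81.DerRoot
import Cfsg.Agent.H818.StrP.UBru
import Cfsg.Agent.Nodes.PosPair

/-!
# S3509, box U: the long root groups of `Y^σ` (helper169)

`Y = D.group (KK r)`, `m : MData hp r q K₀`, `a₀` the highest root.

* `T0 m = X_{a₀}^σ`, `T0' m = X_{-a₀}^σ`; `LRG m X` : `X` is a `Y^σ`-conjugate of `T0 m`; `LR m v` : long root elements;
* `Img q X X'` : `X`, `X'` are the images of the upper / lower unitriangular matrices under a homomorphism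
  `SL₂(F) → Y`, `|F| = q`;
* `img_T0` : `Img q (T0 m) (T0' m)`; `card_T0`;
* `pair` : two long root groups generate an `r`-group or are conjugate to `(T0 m, T0' m)`.
-/

set_option autoImplicit false
set_option linter.unusedSectionVars false

namespace Cfsg.Agent.H169.RG

open CoxeterSystem Cfsg Cfsg.Lie Cfsg.Lie.ChevalleyDatum
open Cfsg.Agent.ChevalleyStructure Cfsg.Agent.ChevalleyStructure.Elts Cfsg.Agent.ChevalleyStructure.CoxeterGeom
  Cfsg.Agent.ChevalleyStructure.CoxeterGeomTypes Cfsg.Agent.ChevalleyStructure.NPerm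
open Cfsg.Agent.Tits.Roots Cfsg.Agent.Tits.Core Cfsg.Agent.Nodes Cfsg.Agent.Nodes.Reps Cfsg.Agent.Nodes.BNOf
  Cfsg.Agent.Nodes.RGDChev Cfsg.Agent.Nodes.Bruhat Cfsg.Agent.Nodes.NormalForm
open Cfsg.Agent.KFacts.RgdField Cfsg.Agent.KFacts.RgdChevCoord
open Cfsg.Agent.BpExc Cfsg.Agent.BpExc.TorCent Cfsg.Agent.BpExc.TorChev Cfsg.Agent.BpExc.Tow
  Cfsg.Agent.BpExc.TowChev Cfsg.Agent.BpExc.Fr Cfsg.Agent.BpExc.Pair Cfsg.Agent.BpExc.LangFr Cfsg.Agent.GpExc.Field
  Cfsg.Agent.BpExc.NInst Cfsg.Agent.BpExc.NChev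
open Cfsg.Agent.ChevalleyStructure.SL2Hom (up lo)
open Cfsg.Agent.H469.Exc Cfsg.Agent.H316.U6 Cfsg.Agent.H81.TorOrth

universe u v

/-! ### images of `SL₂(q)` -/

/-- conjugate subgroup -/
def cjS {Y : Type*} [Group Y] (y : Y) (X : Subgroup Y) : Subgroup Y := X.map (MulAut.conj y).toMonoidHom

section cjS

variable {Y : Type*} [Group Y]

theorem mem_cjS {y x : Y} {X : Subgroup Y} : x ∈ cjS y X ↔ y⁻¹ * x * y ∈ X := by
  constructor
  · rintro ⟨z, hz, rfl⟩
    change y⁻¹ * (y * z * y⁻¹) * y ∈ X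
    have e : y⁻¹ * (y * z * y⁻¹) * y = z := by group
    rwa [e]
  · intro h
    refine ⟨_, h, ?_⟩
    change y * (y⁻¹ * x * y) * y⁻¹ = x
    group

theorem cjS_mul (y z : Y) (X : Subgroup Y) : cjS (y * z) X = cjS y (cjS z X) := by
  ext x
  rw [mem_cjS, mem_cjS, mem_cjS]
  have e : (y * z)⁻¹ * x * (y * z) = z⁻¹ * (y⁻¹ * x * y) * z := by group
  rw [e]

theorem cjS_one (X : Subgroup Y) : cjS (1 : Y) X = X := by
  ext x
  rw [mem_cjS]
  simp

theorem cjS_sup (y : Y) (X X' : Subgroup Y) : cjS y (X ⊔ X') = cjS y X ⊔ cjS y X' := Subgroup.map_sup _ _ _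

theorem cjS_eq_of_comm {y : Y} {X : Subgroup Y} (h : ∀ x ∈ X, y * x = x * y) : cjS y X = X := by
  have h1 : cjS y X ≤ X := by
    rintro _ ⟨x, hx, rfl⟩
    change y * x * y⁻¹ ∈ X
    rw [h x hx, mul_inv_cancel_right]
    exact hx
  refine le_antisymm h1 fun x hx => ?_
  rw [mem_cjS]
  have e : y⁻¹ * x * y = x := by
    rw [mul_assoc, ← h x hx, inv_mul_cancel_left]
  rwa [e]

theorem cjS_pgroup {p : ℕ} {y : Y} {X : Subgroup Y} (h : IsPGroup p X) : IsPGroup p (cjS y X) := h.map _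

end cjS

/-- `X`, `X'` are the images of the upper / lower unitriangular groups under a homomorphism `SL₂(F) → Y`, `|F| = q` -/
def Img {Y : Type*} [Group Y] (q : ℕ) (X X' : Subgroup Y) : Prop :=
  ∃ (F : Type) (_ : Field F) (_ : Fintype F) (φ : Matrix.SpecialLinearGroup (Fin 2) F →* Y), Fintype.card F = q ∧
    (∀ y, y ∈ X ↔ ∃ t, φ (up t) = y) ∧ (∀ y, y ∈ X' ↔ ∃ t, φ (lo t) = y) ∧ (∀ t, φ (up t) = 1 → t = 0)

theorem Img.conj {Y : Type*} [Group Y] {q : ℕ} {X X' : Subgroup Y} (h : Img q X X') (y : Y) :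
    Img q (cjS y X) (cjS y X') := by
  obtain ⟨F, _, _, φ, hF, h1, h2, h3⟩ := h
  refine ⟨F, _, _, (MulAut.conj y).toMonoidHom.comp φ, hF, fun z => ?_, fun z => ?_, fun t ht => h3 t ?_⟩
  · rw [mem_cjS, h1]
    constructor
    · rintro ⟨t, ht⟩
      refine ⟨t, ?_⟩
      change y * φ (up t) * y⁻¹ = z
      rw [ht]
      group
    · rintro ⟨t, ht⟩
      refine ⟨t, ?_⟩
      have ht' : y * φ (up t) * y⁻¹ = z := ht
      rw [← ht']
      group
  · rw [mem_cjS, h2]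
    constructor
    · rintro ⟨t, ht⟩
      refine ⟨t, ?_⟩
      change y * φ (lo t) * y⁻¹ = z
      rw [ht]
      group
    · rintro ⟨t, ht⟩
      refine ⟨t, ?_⟩
      have ht' : y * φ (lo t) * y⁻¹ = z := ht
      rw [← ht']
      group
  · have ht' : y * φ (up t) * y⁻¹ = 1 := ht
    have e : φ (up t) = y⁻¹ * (y * φ (up t) * y⁻¹) * y := by group
    rw [e, ht']
    group

section

variable {D : ChevalleyDatum} {l : ℕ} {M : CoxeterMatrix (Fin l)} {hp : IsType D l M} {r q : ℕ} [hr : Fact r.Prime]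
  {K₀ : Type v} [Group K₀] (m : MData hp r q K₀)

/-- the standard long root group of `Y^σ` -/
noncomputable def T0 : Subgroup ↥(D.group (KK r)) := XX D l (KK r) (vec D l (D.nroots - 1)) ⊓ fixedSubgroup m.σ

/-- the opposite group -/
noncomputable def T0' : Subgroup ↥(D.group (KK r)) := XX D l (KK r) (-vec D l (D.nroots - 1)) ⊓ fixedSubgroup m.σ

/-- long root groups of `Y^σ` -/
def LRG (X : Subgroup ↥(D.group (KK r))) : Prop := ∃ y, m.σ y = y ∧ X = cjS y (T0 m)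

/-- long root elements of `Y^σ` -/
def LR (v : ↥(D.group (KK r))) : Prop := v ≠ 1 ∧ ∃ X, LRG m X ∧ v ∈ X

end

end Cfsg.Agent.H169.RG
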