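import Cfsg.Agent.H169.RG.MPsi
import Cfsg.Agent.H441.RG.NormM
import Cfsg.Agent.H798.RG.LongWeak
import Cfsg.Agent.H694.RG.EngP

/-!
# S3509, box U: the useful elements (helper169)

`h : ZForm m α θ t z` (helper441), `β` a `θ`-fixed long top of `Sx t`, `MZ = z ⟨X_β^α ^ K⟩ z⁻¹`.

* `core_useful` : `MZ ≤ m.ι.range`, `MZ ≠ m.ι.range`, `MZ` perfect, quasisimple with quotient not alternating, contains a long
  root element (inputs: `Cond`, not one of the exceptional alternating groups, some root is not in `Sx t`);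
* `lr_weak` : the long root elements in the weak form;
* `usY_of` : `UsY` for a toral form.
-/

set_option autoImplicit false
set_option linter.unusedSectionVars false

namespace Cfsg.Agent.H169.RG

open CoxeterSystem Cfsg Cfsg.Lie Cfsg.Lie.ChevalleyDatum
open Cfsg.Agent.ChevalleyStructure Cfsg.Agent.ChevalleyStructure.Elts Cfsg.Agent.ChevalleyStructure.CoxeterGeom
  Cfsg.Agent.ChevalleyStructure.CoxeterGeomTypes Cfsg.Agent.ChevalleyStructure.NPerm
open Cfsg.Agent.Tits.Roots Cfsg.Agent.Tits.Core Cfsg.Agent.Nodes Cfsg.Agent.Nodes.Reps Cfsg.Agent.Nodes.BNOf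
  Cfsg.Agent.Nodes.RGDChev Cfsg.Agent.Nodes.Bruhat Cfsg.Agent.Nodes.NormalForm
open Cfsg.Agent.KFacts.RgdField Cfsg.Agent.KFacts.RgdChevCoord
open Cfsg.Agent.BpExc Cfsg.Agent.BpExc.TorCent Cfsg.Agent.BpExc.TorChev Cfsg.Agent.BpExc.Tow
  Cfsg.Agent.BpExc.TowChev Cfsg.Agent.BpExc.Fr Cfsg.Agent.BpExc.Pair Cfsg.Agent.BpExc.LangFr Cfsg.Agent.GpExc.Field
  Cfsg.Agent.BpExc.NInst Cfsg.Agent.BpExc.NChev
open Cfsg.Agent.H469.Exc Cfsg.Agent.H316.U6 Cfsg.Agent.H28.RG
open Cfsg.Agent.H441.RG (Wk.DFr ZForm)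
open Cfsg.Agent.H884.NA (ExcAlt)
open Cfsg.Agent.H398.RG (MK Cond Base)
open Cfsg.Agent.H873.RG (NSA)
open Cfsg.Agent.H694.RG

universe u v

section Abs

variable {Y : Type} [Group Y]

/-- transport of the quotient by conjugation -/
theorem quot_conj {N : Subgroup Y} [Finite N] (z : Y) (h : NSA (↥N ⧸ Subgroup.center ↥N)) :
    ∃ (S' : Type) (_ : Group S') (_ : Finite S') (π : ↥(N.map (MulAut.conj z).toMonoidHom) →* S'),
      Function.Surjective π ∧ π.ker ≤ Subgroup.center _ ∧ NSA S' := by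
  let e := N.equivMapOfInjective (MulAut.conj z).toMonoidHom (MulAut.conj z).injective
  refine ⟨↥N ⧸ Subgroup.center ↥N, inferInstance, inferInstance,
    (QuotientGroup.mk' (Subgroup.center ↥N)).comp e.symm.toMonoidHom, ?_, ?_, h⟩
  · exact (QuotientGroup.mk'_surjective _).comp e.symm.surjective
  · intro x hx
    have h1 : e.symm x ∈ Subgroup.center ↥N := (QuotientGroup.eq_one_iff _).1 hx
    rw [Subgroup.mem_center_iff] at h1 ⊢
    intro y
    apply e.symm.injective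
    rw [map_mul, map_mul]
    exact h1 _

theorem perf_conj {N : Subgroup Y} (z : Y) (h : ⁅N, N⁆ = N) :
    ⁅N.map (MulAut.conj z).toMonoidHom, N.map (MulAut.conj z).toMonoidHom⁆ = N.map (MulAut.conj z).toMonoidHom := by
  rw [← Subgroup.map_commutator, h]

end Abs

section Core

variable {D : ChevalleyDatum} {l : ℕ} {M : CoxeterMatrix (Fin l)} {hp : IsType D l M} {r q : ℕ} [hr : Fact r.Prime]
  {K₀ : Type v} [Group K₀]

/-- the group `z ⟨X_β^α ^ K⟩ z⁻¹` -/
noncomputable def MZ (hp : IsType D l M) (α : MulAut ↥(D.group (KK r))) (t z : ↥(D.group (KK r))) (β : Fin l → ℤ) :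
    Subgroup ↥(D.group (KK r)) :=
  (MK (H441.RG.KT hp α t) (XX D l (KK r) β ⊓ fixedSubgroup α)).map (MulAut.conj z).toMonoidHom

variable {m : MData hp r q K₀} {α : MulAut ↥(D.group (KK r))} {θ : (Fin l → ℤ) ≃+ (Fin l → ℤ)}
  {t z : ↥(D.group (KK r))} {β : Fin l → ℤ}

/-- **The core of box U.** -/
theorem core_useful (h : ZForm m α θ t z) (Bβ : Top M.toCoxeterSystem hp.isCartan (ch hp) θ t β)
    (hlr : ∀ x ∈ XX D l (KK r) β, α x = x → x ≠ 1 → LR m (z * x * z⁻¹))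
    (hc : Cond (H441.RG.KT hp α t) (XX D l (KK r) β ⊓ fixedSubgroup α) (XX D l (KK r) (-β) ⊓ fixedSubgroup α))
    (hna : ∀ j, ExcAlt (r ^ m.e) j → ¬ Nonempty ((↥(MK (H441.RG.KT hp α t) (XX D l (KK r) β ⊓ fixedSubgroup α)) ⧸
      Subgroup.center ↥(MK (H441.RG.KT hp α t) (XX D l (KK r) β ⊓ fixedSubgroup α))) ≃* alternatingGroup (Fin j)))
    (ha : ∃ a, IsRoot M.toCoxeterSystem hp.isCartan a ∧ a ∉ Sx M.toCoxeterSystem hp.isCartan (ch hp) t) :
    MZ hp α t z β ≤ m.ι.range ∧ MZ hp α t z β ≠ m.ι.range ∧ ⁅MZ hp α t z β, MZ hp α t z β⁆ = MZ hp α t z β ∧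
      (∃ (S' : Type) (_ : Group S') (_ : Finite S') (π : ↥(MZ hp α t z β) →* S'),
        Function.Surjective π ∧ π.ker ≤ Subgroup.center _ ∧ NSA S') ∧ ∃ v ∈ MZ hp α t z β, LR m v := by
  have hfC := h.finite
  have hfin : Finite ↥(H441.RG.KT hp α t) := Finite.of_injective _ (Subgroup.inclusion_injective h.KT_le)
  have hB := baseF h.d Bβ
  obtain ⟨hXM, hYM, hMK, hKn, hperf, hs, hcm⟩ := hB.all hc
  have hNSA := nsa_M h.d Bβ hc hna
  have hfM : Finite ↥(MK (H441.RG.KT hp α t) (XX D l (KK r) β ⊓ fixedSubgroup α)) :=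
    Finite.of_injective _ (Subgroup.inclusion_injective hMK)
  refine ⟨?_, ?_, ?_, ?_, ?_⟩
  · exact h.le_range (fun k hk => (mem_fixC.1 (h.KT_le hk)).1) hB.leX hB.pgrp
  · obtain ⟨a, ha, hat⟩ := ha
    exact h.ne_range (hMK.trans h.KT_le) ha hat
  · exact perf_conj z hperf
  · exact quot_conj z hNSA
  · obtain ⟨⟨x, hx⟩, hx1⟩ := (Subgroup.ne_bot_iff_exists_ne_one).1 hB.ne
    exact ⟨z * x * z⁻¹, ⟨x, hXM hx, rfl⟩, hlr x hx.1 hx.2 fun h0 => hx1 (Subtype.ext h0)⟩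

/-- the long root elements, weak form -/
theorem lr_weak {n : ↥(D.group (KK r))} (hn : z⁻¹ * m.σ z = n)
    (F : Fr M.toCoxeterSystem hp.isCartan (TT D (KK r)) (XX D l (KK r)) (MulAut.conj n * m.σ) θ)
    (hβ : ∃ w : M.Group, β = rep M.toCoxeterSystem hp.isCartan w (vec D l (D.nroots - 1))) (hθ : θ β = β) :
    ∀ x ∈ XX D l (KK r) β, (MulAut.conj n * m.σ) x = x → x ≠ 1 → LR m (z * x * z⁻¹) := by
  intro x hx hα hx1
  refine ⟨fun h => hx1 ?_, _, H798.RG.lrg_weak m hn F hβ hθ, ?_⟩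
  · have e : x = z⁻¹ * (z * x * z⁻¹) * z := by group
    rw [e, h]
    group
  · rw [mem_cjS]
    have e : z⁻¹ * (z * x * z⁻¹) * z = x := by group
    rw [e]
    exact ⟨hx, hα⟩

/-- the weak form from the equation of Lang -/
theorem zform_weak {n : ↥(D.group (KK r))} (hn : z⁻¹ * m.σ z = n)
    (d : Wk.DFr hp M.toCoxeterSystem r m.e (MulAut.conj n * m.σ) θ t) : ZForm m (MulAut.conj n * m.σ) θ t z where
  d := d
  hz y := by
    have h1 : (MulAut.conj n * m.σ) y = z⁻¹ * m.σ (z * y * z⁻¹) * z := by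
      rw [MulAut.mul_apply, MulAut.conj_apply, ← hn, map_mul, map_mul, map_inv]
      group
    rw [h1]
    constructor
    · intro h
      rw [h]
      group
    · intro h
      calc m.σ (z * y * z⁻¹) = z * (z⁻¹ * m.σ (z * y * z⁻¹) * z) * z⁻¹ := by group
        _ = z * y * z⁻¹ := by rw [h]

/-- if every root is in `Sx t`, then `t = 1` -/
theorem exists_not_mem (ht : t ∈ TT D (KK r)) (ht1 : t ≠ 1) :
    ∃ a, IsRoot M.toCoxeterSystem hp.isCartan a ∧ a ∉ Sx M.toCoxeterSystem hp.isCartan (ch hp) t := by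
  by_contra hcon
  push Not at hcon
  apply ht1
  have C := coordsL hp M.toCoxeterSystem (locFin r) r
  have h1 : GG M.toCoxeterSystem hp.isCartan (TT D (KK r)) (XX D l (KK r)) ≤ Subgroup.centralizer {t} := by
    refine sup_le (fun y hy => ?_) (RGD.Sup_le fun a ha => X_le_centralizer C ht (hcon a ha))
    rw [Subgroup.mem_centralizer_singleton_iff]
    exact TT_comm hp y hy t ht
  rw [GG_top hp M.toCoxeterSystem] at h1
  have h2 : t ∈ Subgroup.center ↥(D.group (KK r)) := by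
    rw [Subgroup.mem_center_iff]
    intro g
    exact Subgroup.mem_centralizer_singleton_iff.1 (h1 (Subgroup.mem_top g))
  rw [Cfsg.Agent.S1077.center_group_eq_bot hp.inList] at h2
  exact Subgroup.mem_bot.1 h2

end Core

variable {D : ChevalleyDatum} {l : ℕ} {M : CoxeterMatrix (Fin l)} {r : ℕ} [hr : Fact r.Prime]

/-- the size condition of box U: `Q` the order of the field, `j` the number of decompositions -/
def SizeOK (Q j : ℕ) : Prop := (Q = 2 → 5 ≤ j) ∧ (Q = 3 ∨ Q = 4 ∨ Q = 5 ∨ Q = 9 → 1 ≤ j)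

/-- the decompositions of `β` in `Sx t` -/
def Gam (hp : IsType D l M) (t : ↥(D.group (KK r))) (β : Fin l → ℤ) : Set (Fin l → ℤ) :=
  {a | a ∈ Sx M.toCoxeterSystem hp.isCartan (ch hp) t ∧ IsRoot M.toCoxeterSystem hp.isCartan (β - a)}

section Tor

variable {D : ChevalleyDatum} {l : ℕ} {M : CoxeterMatrix (Fin l)} {hp : IsType D l M} {r q : ℕ} [hr : Fact r.Prime]
  {K₀ : Type} [Group K₀] {m : MData hp r q K₀} {β : Fin l → ℤ} {s : ↥(D.group (KK r))} (f : TorForm m s)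

/-- **`UsY` for a toral form**, the inputs `Cond` and `ExcAlt` as hypotheses -/
theorem usY_gen {U : ↥(D.group (KK r)) → Subgroup ↥(D.group (KK r))} (hF : Cfsg.Agent.H327.RG.Fr m.ι m.σ)
    (hY : YData m.ι (fixedSubgroup m.σ) r (LR m) U) (hs : (orderOf s).Coprime r) (hs1 : s ≠ 1)
    (Bβ : Top M.toCoxeterSystem hp.isCartan (ch hp) f.θ f.t β)
    (hlong : ∃ w : M.Group, β = rep M.toCoxeterSystem hp.isCartan w (vec D l (D.nroots - 1)))
    (hc : Cond (H441.RG.KT hp f.α f.t) (XX D l (KK r) β ⊓ fixedSubgroup f.α) (XX D l (KK r) (-β) ⊓ fixedSubgroup f.α))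
    (hna : ∀ j, ExcAlt (r ^ m.e) j → ¬ Nonempty ((↥(MK (H441.RG.KT hp f.α f.t) (XX D l (KK r) β ⊓ fixedSubgroup f.α)) ⧸
      Subgroup.center ↥(MK (H441.RG.KT hp f.α f.t) (XX D l (KK r) β ⊓ fixedSubgroup f.α))) ≃*
        alternatingGroup (Fin j))) :
    UsY m.ι (fixedSubgroup m.σ) r (MZ hp f.α f.t f.z β) s := by
  have hz := H441.RG.zform f
  have ht1 : f.t ≠ 1 := by
    intro h
    apply hs1
    rw [f.eq, h]
    group
  obtain ⟨h1, h2, h3, h4, v, hv, hvL⟩ := core_useful hz Bβ (lr_weak f.lang f.fr hlong Bβ.fix) hc hna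
    (exists_not_mem f.mem ht1)
  have := hz.finite
  have hMC : MK (H441.RG.KT hp f.α f.t) (XX D l (KK r) β ⊓ fixedSubgroup f.α) ≤ fixC f.α f.t :=
    (H398.RG.MK_le_self (baseF hz.d Bβ).leX).trans hz.KT_le
  exact ⟨h1, h2, h3, h4, (hY.dead hF hv hvL).at s, fun x hx => H441.RG.centT f hMC hx,
    fun c hc' hcs hco => H441.RG.norm_weakT f hs hc' hcs hco⟩

/-- all elements commuting with `s` normalise `MZ` -/
theorem norm_MZ [Finite M.Group] (Bβ : Top M.toCoxeterSystem hp.isCartan (ch hp) f.θ f.t β)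
    (hPP : ∀ w ∈ PP M.toCoxeterSystem hp.isCartan (ch hp) f.t, rep M.toCoxeterSystem hp.isCartan w β = β)
    {c : ↥(D.group (KK r))} (hc : c ∈ fixedSubgroup m.σ) (hcs : c * s = s * c) :
    c ∈ Subgroup.normalizer ((MZ hp f.α f.t f.z β : Subgroup ↥(D.group (KK r))) : Set ↥(D.group (KK r))) := by
  exact H441.RG.norm_strongT f Bβ.mem.1 hPP hc hcs

end Tor

end Cfsg.Agent.H169.RG
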